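import Mathlib
import Cfsg.Prelude.Def_Classical
import Cfsg.Agent.Lib.Classical.WittExtension

/-!
The quadratic forms over the field of two elements with the polar form of `quadFormPlus`.
-/

namespace CfsgLib.BinForms

variable {m : ℕ}

abbrev Vec (m : ℕ) := Fin m ⊕ Fin m → ZMod 2

local notation "Q0" => Cfsg.quadFormPlus _ (ZMod 2)

/-- The polar form. -/
def pol (u v : Vec m) : ZMod 2 :=
  Cfsg.quadFormPlus m (ZMod 2) (u + v) - Cfsg.quadFormPlus m (ZMod 2) u - Cfsg.quadFormPlus m (ZMod 2) v

theorem pol_eq (u v : Vec m) :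
    pol u v = ∑ i : Fin m, (u (.inl i) * v (.inr i) + u (.inr i) * v (.inl i)) := by
  simp only [pol, Cfsg.quadFormPlus, Pi.add_apply]
  rw [← Finset.sum_sub_distrib, ← Finset.sum_sub_distrib]
  exact Finset.sum_congr rfl fun i _ => by ring

theorem pol_add_left (u v w : Vec m) : pol (u + v) w = pol u w + pol v w := by
  simp only [pol_eq, Pi.add_apply, ← Finset.sum_add_distrib]
  exact Finset.sum_congr rfl fun i _ => by ring

theorem pol_add_right (u v w : Vec m) : pol u (v + w) = pol u v + pol u w := by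
  simp only [pol_eq, Pi.add_apply, ← Finset.sum_add_distrib]
  exact Finset.sum_congr rfl fun i _ => by ring

theorem pol_comm (u v : Vec m) : pol u v = pol v u := by
  simp only [pol_eq]
  exact Finset.sum_congr rfl fun i _ => by ring

theorem pol_self (u : Vec m) : pol u u = 0 := by
  simp only [pol_eq]
  refine Finset.sum_eq_zero fun i _ => ?_
  generalize u (.inl i) = a
  generalize u (.inr i) = b
  revert a b
  decide

theorem pol_zero_left (u : Vec m) : pol 0 u = 0 := by simp [pol_eq]

theorem pol_smul_left (c : ZMod 2) (u v : Vec m) : pol (c • u) v = c * pol u v := by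
  simp only [pol_eq, Pi.smul_apply, smul_eq_mul, Finset.mul_sum]
  exact Finset.sum_congr rfl fun i _ => by ring

theorem exists_pol_eq_one {u : Vec m} (hu : u ≠ 0) : ∃ v, pol v u = 1 := by
  obtain ⟨i | i, hi⟩ : ∃ j, u j ≠ 0 := Function.ne_iff.mp hu
  · refine ⟨Pi.single (.inr i) 1, ?_⟩
    simp only [pol_eq]
    rw [Finset.sum_eq_single i (fun j _ hj => by simp [hj]) (fun h => absurd (Finset.mem_univ i) h)]
    simp only [Pi.single_eq_same, Pi.single_eq_of_ne (show (Sum.inl i : Fin m ⊕ Fin m) ≠ .inr i by simp), zero_mul, zero_add, one_mul]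
    exact (by decide : ∀ a : ZMod 2, a ≠ 0 → a = 1) _ hi
  · refine ⟨Pi.single (.inl i) 1, ?_⟩
    simp only [pol_eq]
    rw [Finset.sum_eq_single i (fun j _ hj => by simp [hj]) (fun h => absurd (Finset.mem_univ i) h)]
    simp only [Pi.single_eq_same, Pi.single_eq_of_ne (show (Sum.inr i : Fin m ⊕ Fin m) ≠ .inl i by simp), zero_mul, add_zero, one_mul]
    exact (by decide : ∀ a : ZMod 2, a ≠ 0 → a = 1) _ hi

/-- `q` has the given polar form. -/
def IsForm (q : Vec m → ZMod 2) : Prop :=
  ∀ u v : Vec m, q (u + v) = q u + q v +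
    (Cfsg.quadFormPlus m (ZMod 2) (u + v) - Cfsg.quadFormPlus m (ZMod 2) u - Cfsg.quadFormPlus m (ZMod 2) v)

theorem IsForm.map_zero {q : Vec m → ZMod 2} (hq : IsForm q) : q 0 = 0 := by
  have h := hq 0 0
  rw [show Cfsg.quadFormPlus m (ZMod 2) ((0 : Vec m) + 0) - Cfsg.quadFormPlus m (ZMod 2) 0 -
    Cfsg.quadFormPlus m (ZMod 2) 0 = pol 0 0 from rfl, pol_zero_left, add_zero, add_zero] at h
  linear_combination -h

theorem IsForm.add' {q : Vec m → ZMod 2} (hq : IsForm q) (u v : Vec m) :
    q (u + v) = q u + q v + pol u v := hq u v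

theorem isForm_plus : IsForm (Cfsg.quadFormPlus m (ZMod 2)) := fun u v => by ring

/-- The sign of an element of the field of two elements. -/
def sgn (a : ZMod 2) : ℤ := if a = 0 then 1 else -1

theorem sgn_add (a b : ZMod 2) : sgn (a + b) = sgn a * sgn b := by
  revert a b; decide

theorem sum_sgn_pol {d : Vec m} (hd : d ≠ 0) : ∑ u : Vec m, sgn (pol u d) = 0 := by
  obtain ⟨v, hv⟩ := exists_pol_eq_one hd
  have h : ∑ u : Vec m, sgn (pol u d) = ∑ u : Vec m, sgn (pol (u + v) d) :=
    (Fintype.sum_equiv (Equiv.addRight v) _ _ fun u => rfl).symm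
  simp only [pol_add_left, hv, sgn_add, show sgn 1 = -1 from rfl, mul_neg_one, Finset.sum_neg_distrib] at h
  omega

theorem IsForm.sum_sq {q : Vec m → ZMod 2} (hq : IsForm q) :
    (∑ v : Vec m, sgn (q v)) ^ 2 = 2 ^ (2 * m) := by
  rw [sq, Finset.sum_mul_sum]
  have h : ∀ u : Vec m, ∑ v : Vec m, sgn (q u) * sgn (q v) = ∑ d : Vec m, sgn (q d) * sgn (pol u d) := by
    intro u
    refine Fintype.sum_equiv (Equiv.addLeft u) _ _ fun v => ?_
    show sgn (q u) * sgn (q v) = sgn (q (u + v)) * sgn (pol u (u + v))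
    rw [hq.add', pol_add_right, pol_self, zero_add]
    simp only [sgn_add]
    generalize q u = a
    generalize q v = b
    generalize pol u v = c
    revert a b c
    decide
  rw [Finset.sum_congr rfl fun u _ => h u, Finset.sum_comm]
  simp only [← Finset.mul_sum]
  rw [Finset.sum_eq_single (0 : Vec m) (fun d _ hd => by rw [sum_sgn_pol hd, mul_zero])
    (fun h => absurd (Finset.mem_univ _) h), hq.map_zero]
  simp only [pol_comm _ (0 : Vec m), pol_zero_left, show sgn 0 = 1 from rfl, Finset.sum_const,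
    Finset.card_univ, Fintype.card_fun, Fintype.card_sum, Fintype.card_fin, ZMod.card, one_mul,
    nsmul_one, ← two_mul]
  push_cast
  rfl

/-- Translating the linear part by `w` gives an equivalent form exactly when `q w = 0`. -/
theorem IsForm.translate {q : Vec m → ZMod 2} (hq : IsForm q) (w : Vec m) :
    (∃ g : Vec m ≃ₗ[ZMod 2] Vec m, ∀ v, q v + pol v w = q (g v)) ↔ q w = 0 := by
  constructor
  · rintro ⟨g, hg⟩
    by_contra hw
    have hw1 : q w = 1 := (by decide : ∀ a : ZMod 2, a ≠ 0 → a = 1) _ hw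
    have h1 : ∑ v : Vec m, sgn (q v + pol v w) = ∑ v : Vec m, sgn (q v) := by
      simp only [hg]
      exact Fintype.sum_equiv g.toEquiv _ _ fun v => rfl
    have h2 : ∑ v : Vec m, sgn (q v + pol v w) = -∑ v : Vec m, sgn (q v) := by
      rw [← Finset.sum_neg_distrib]
      refine Fintype.sum_equiv (Equiv.addRight w) _ _ fun v => ?_
      show _ = -sgn (q (v + w))
      rw [hq.add', hw1]
      generalize q v = a
      generalize pol v w = b
      revert a b
      decide
    have h3 := hq.sum_sq
    rw [show ∑ v : Vec m, sgn (q v) = 0 by omega] at h3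
    simp at h3
    exact absurd h3.symm (pow_ne_zero _ (by norm_num))
  · intro hw
    let t : Vec m →ₗ[ZMod 2] Vec m :=
      { toFun := fun v => v + pol v w • w
        map_add' := fun u v => by rw [pol_add_left, add_smul]; abel
        map_smul' := fun c v => by rw [pol_smul_left, RingHom.id_apply, smul_add, mul_smul] }
    have ht : ∀ v, t (t v) = v := fun v => by
      show (v + pol v w • w) + pol (v + pol v w • w) w • w = v
      rw [pol_add_left, pol_smul_left, pol_self, mul_zero, add_zero, add_assoc, ← add_smul,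
        CharTwo.add_self_eq_zero, zero_smul, add_zero]
    refine ⟨LinearEquiv.ofLinear t t (LinearMap.ext ht) (LinearMap.ext ht), fun v => ?_⟩
    show _ = q (v + pol v w • w)
    rcases (by decide : ∀ a : ZMod 2, a = 0 ∨ a = 1) (pol v w) with h | h
    · rw [h, zero_smul, add_zero, add_zero]
    · rw [h, one_smul, hq.add', hw, h]; ring

/-- Every such form is a translate of the plus form. -/
theorem IsForm.exists_translate {q : Vec m → ZMod 2} (hq : IsForm q) :
    ∃! w : Vec m, ∀ v, q v = Cfsg.quadFormPlus m (ZMod 2) v + pol v w := by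
  let ψ : Vec m → (Vec m →+ ZMod 2) := fun w => AddMonoidHom.mk' (fun v => pol v w) fun a b => pol_add_left a b w
  let Φ : Vec m →ₗ[ZMod 2] Module.Dual (ZMod 2) (Vec m) :=
    LinearMap.mk₂ (ZMod 2) (fun w v => pol v w) (fun a b c => pol_add_right c a b)
      (fun r a c => by rw [pol_comm, pol_smul_left, pol_comm a c, smul_eq_mul])
      (fun a b c => pol_add_left b c a) (fun r a c => by rw [pol_smul_left, smul_eq_mul])
  have hinj : Function.Injective Φ := by
    rw [injective_iff_map_eq_zero]
    intro w hw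
    by_contra hne
    obtain ⟨v, hv⟩ := exists_pol_eq_one hne
    have := LinearMap.congr_fun hw v
    rw [show Φ w v = pol v w from rfl, hv] at this
    exact one_ne_zero this
  have hsurj := (LinearMap.injective_iff_surjective_of_finrank_eq_finrank
    Subspace.dual_finrank_eq.symm).mp hinj
  let l : Vec m →+ ZMod 2 := AddMonoidHom.mk' (fun v => q v - Cfsg.quadFormPlus m (ZMod 2) v) fun a b => by
    rw [hq a b]; ring
  obtain ⟨w, hw⟩ := hsurj (l.toZModLinearMap 2)
  refine ⟨w, fun v => ?_, fun w' hw' => hinj (LinearMap.ext fun v => ?_)⟩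
  · have := LinearMap.congr_fun hw v
    rw [show Φ w v = pol v w from rfl] at this
    rw [this]
    show q v = _ + (q v - _)
    ring
  · have := LinearMap.congr_fun hw v
    rw [show Φ w v = pol v w from rfl] at this
    show pol v w' = pol v w
    rw [this]
    show _ = q v - _
    rw [hw' v]; ring

theorem isForm_translate (w : Vec m) : IsForm fun v => Cfsg.quadFormPlus m (ZMod 2) v + pol v w := by
  intro u v
  show _ = _
  simp only [pol_add_left]; ring

/-- The number of zeros of the plus form. -/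
theorem card_zero (hm : 1 ≤ m) :
    Nat.card {w : Vec m // Cfsg.quadFormPlus m (ZMod 2) w = 0} = 2 ^ (2 * m - 1) + 2 ^ (m - 1) ∧
      Nat.card {w : Vec m // Cfsg.quadFormPlus m (ZMod 2) w = 1} = 2 ^ (2 * m - 1) - 2 ^ (m - 1) := by
  classical
  have hS : ∑ v : Vec m, sgn (Cfsg.quadFormPlus m (ZMod 2) v) = 2 ^ m := by
    have hsplit : ∀ p : (Fin m → ZMod 2) × (Fin m → ZMod 2),
        Cfsg.quadFormPlus m (ZMod 2) (Sum.elim p.1 p.2) = ∑ i, p.1 i * p.2 i := fun p => rfl
    rw [← Fintype.sum_equiv (Equiv.sumArrowEquivProdArrow (Fin m) (Fin m) (ZMod 2)).symm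
      (fun p => sgn (∑ i, p.1 i * p.2 i)) _ (fun p => by rw [← hsplit p]; rfl), Fintype.sum_prod_type]
    rw [Finset.sum_eq_single (0 : Fin m → ZMod 2)]
    · simp [show sgn 0 = 1 from rfl]
    · intro x _ hx
      obtain ⟨i, hi⟩ := Function.ne_iff.mp hx
      have hxi : x i = 1 := (by decide : ∀ a : ZMod 2, a ≠ 0 → a = 1) _ hi
      have h : ∑ y : Fin m → ZMod 2, sgn (∑ j, x j * y j) =
          ∑ y : Fin m → ZMod 2, sgn (∑ j, x j * (y + Pi.single i 1 : Fin m → ZMod 2) j) :=
        (Fintype.sum_equiv (Equiv.addRight (Pi.single i 1 : Fin m → ZMod 2)) _ _ fun u => rfl).symm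
      simp only [Pi.add_apply, mul_add, Finset.sum_add_distrib, sgn_add] at h
      rw [show ∑ j, x j * (Pi.single i 1 : Fin m → ZMod 2) j = 1 by simp [Pi.single_apply, hxi]] at h
      simp only [show sgn 1 = -1 from rfl, mul_neg_one, Finset.sum_neg_distrib] at h
      show ∑ y : Fin m → ZMod 2, sgn (∑ j, x j * y j) = 0
      omega
    · exact fun h => absurd (Finset.mem_univ _) h
  rw [Nat.card_eq_fintype_card, Nat.card_eq_fintype_card, Fintype.card_subtype, Fintype.card_subtype]
  set A := Finset.univ.filter fun w : Vec m => Cfsg.quadFormPlus m (ZMod 2) w = 0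
  set B := Finset.univ.filter fun w : Vec m => Cfsg.quadFormPlus m (ZMod 2) w = 1
  have hB : B = Finset.univ.filter fun w : Vec m => ¬ Cfsg.quadFormPlus m (ZMod 2) w = 0 := by
    ext w
    simp only [B, Finset.mem_filter, Finset.mem_univ, true_and]
    exact (by decide : ∀ a : ZMod 2, a = 1 ↔ ¬ a = 0) _
  have htot : A.card + B.card = 2 ^ (2 * m) := by
    rw [hB, Finset.card_filter_add_card_filter_not, Finset.card_univ, Fintype.card_fun,
      Fintype.card_sum, Fintype.card_fin, ZMod.card, two_mul]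
  have hdiff : (A.card : ℤ) - B.card = 2 ^ m := by
    rw [← hS, ← Finset.sum_filter_add_sum_filter_not Finset.univ
      (fun w : Vec m => Cfsg.quadFormPlus m (ZMod 2) w = 0), ← hB,
      Finset.sum_congr rfl (fun w hw => show sgn (Cfsg.quadFormPlus m (ZMod 2) w) = 1 by
        rw [(Finset.mem_filter.mp hw).2]; rfl),
      Finset.sum_congr (s₁ := B) rfl (fun w hw => show sgn (Cfsg.quadFormPlus m (ZMod 2) w) = -1 by
        rw [(Finset.mem_filter.mp hw).2]; rfl)]
    simp [A, sub_eq_add_neg]
  have e1 : 2 ^ (2 * m) = 2 * 2 ^ (2 * m - 1) := by rw [← pow_succ']; congr 1; omega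
  have e2 : (2 : ℤ) ^ m = 2 * ((2 ^ (m - 1) : ℕ) : ℤ) := by
    push_cast; rw [← pow_succ']; congr 1; omega
  omega

/-- The translates with `Q0 w = 1` are all equivalent. -/
theorem translate_equiv {w w' : Vec m} (hw : Cfsg.quadFormPlus m (ZMod 2) w = 1)
    (hw' : Cfsg.quadFormPlus m (ZMod 2) w' = 1) :
    ∃ g : Vec m ≃ₗ[ZMod 2] Vec m, ∀ v, Cfsg.quadFormPlus m (ZMod 2) v + pol v w =
      Cfsg.quadFormPlus m (ZMod 2) (g v) + pol (g v) w' := by
  let Q : QuadraticForm (ZMod 2) (Vec m) :=
    QuadraticMap.ofPolar (Cfsg.quadFormPlus m (ZMod 2))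
      (fun a v => by
        simp only [Cfsg.quadFormPlus, Pi.smul_apply, smul_eq_mul, Finset.mul_sum]
        exact Finset.sum_congr rfl fun i _ => by ring)
      (fun u v w => pol_add_left u v w) (fun c u v => pol_smul_left c u v)
  have hQ : (QuadraticMap.polarBilin Q).Nondegenerate := by
    refine ⟨fun v hv => ?_, fun v hv => ?_⟩ <;> by_contra hne <;> obtain ⟨u, hu⟩ := exists_pol_eq_one hne <;>
      have h := hv u
    · rw [show QuadraticMap.polarBilin Q v u = pol v u from rfl, pol_comm, hu] at h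
      exact one_ne_zero h
    · rw [show QuadraticMap.polarBilin Q u v = pol u v from rfl, hu] at h
      exact one_ne_zero h
  have hne : ∀ u : Vec m, Cfsg.quadFormPlus m (ZMod 2) u = 1 → u ≠ 0 := fun u hu h => by
    rw [h, isForm_plus.map_zero] at hu; exact zero_ne_one hu
  let φ := ((LinearEquiv.toSpanNonzeroSingleton (ZMod 2) _ w (hne w hw)).symm.trans
    (LinearEquiv.toSpanNonzeroSingleton (ZMod 2) _ w' (hne w' hw')))
  have hφ : ∀ x, Q (φ x : Vec m) = Q (x : Vec m) := by
    intro x
    obtain ⟨c, hc⟩ := (LinearEquiv.toSpanNonzeroSingleton (ZMod 2) _ w (hne w hw)).surjective x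
    subst hc
    simp only [φ, LinearEquiv.trans_apply, LinearEquiv.symm_apply_apply]
    rw [show ((LinearEquiv.toSpanNonzeroSingleton (ZMod 2) _ w' (hne w' hw')) c : Vec m) = c • w' from rfl,
      show ((LinearEquiv.toSpanNonzeroSingleton (ZMod 2) _ w (hne w hw)) c : Vec m) = c • w from rfl,
      QuadraticMap.map_smul, QuadraticMap.map_smul, show Q w' = 1 from hw', show Q w = 1 from hw]
  obtain ⟨g, hg, hgw⟩ := CfsgLib.Classical.Witt.witt_quadratic Q hQ _ _ φ hφ
  have hgw' : g w = w' := by
    have := hgw ⟨w, Submodule.mem_span_singleton_self w⟩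
    rw [this]
    have e : (LinearEquiv.toSpanNonzeroSingleton (ZMod 2) _ w (hne w hw)).symm
        ⟨w, Submodule.mem_span_singleton_self w⟩ = 1 := by
      rw [LinearEquiv.symm_apply_eq]; exact Subtype.ext (by simp)
    simp only [φ, LinearEquiv.trans_apply, e]
    exact one_smul (ZMod 2) w'
  refine ⟨g, fun v => ?_⟩
  have h1 : ∀ u, Cfsg.quadFormPlus m (ZMod 2) (g u) = Cfsg.quadFormPlus m (ZMod 2) u := hg
  simp only [pol, ← hgw', ← map_add, h1]

/-- The splitting off of the last hyperbolic pair. -/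
theorem minus_equiv (n : ℕ) :
    ∃ (w : Vec (n + 1)) (g : Vec (n + 1) ≃ₗ[ZMod 2] ((Fin n ⊕ Fin n) ⊕ Fin 2 → ZMod 2)),
      Cfsg.quadFormPlus (n + 1) (ZMod 2) w = 1 ∧
      ∀ v, Cfsg.quadFormPlus (n + 1) (ZMod 2) v + pol v w =
        Cfsg.quadFormMinus n (ZMod 2) 1 1 (g v) := by
  let g : Vec (n + 1) →ₗ[ZMod 2] ((Fin n ⊕ Fin n) ⊕ Fin 2 → ZMod 2) :=
    LinearMap.funLeft (ZMod 2) (ZMod 2) (Sum.elim (Sum.elim (fun i => Sum.inl i.castSucc) (fun i => Sum.inr i.castSucc))
      ![Sum.inl (Fin.last n), Sum.inr (Fin.last n)])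
  have hinj : Function.Injective g := by
    intro u v huv
    funext j
    rcases j with i | i <;> rcases Fin.eq_castSucc_or_eq_last i with ⟨k, rfl⟩ | rfl
    · exact congrFun huv (.inl (.inl k))
    · exact congrFun huv (.inr 0)
    · exact congrFun huv (.inl (.inr k))
    · exact congrFun huv (.inr 1)
  refine ⟨fun j => Sum.elim (fun i => if i = Fin.last n then 1 else 0) (fun i => if i = Fin.last n then 1 else 0) j,
    LinearEquiv.ofInjectiveOfFinrankEq g hinj (by simp; omega), ?_, fun v => ?_⟩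
  · simp [Cfsg.quadFormPlus]
  · show _ = Cfsg.quadFormMinus n (ZMod 2) 1 1 (g v)
    simp only [pol_eq, Cfsg.quadFormPlus, Cfsg.quadFormMinus]
    simp [Fin.sum_univ_castSucc, g, LinearMap.funLeft_apply]
    generalize v (Sum.inl (Fin.last n)) = a
    generalize v (Sum.inr (Fin.last n)) = b
    generalize ∑ i : Fin n, v (Sum.inl i.castSucc) * v (Sum.inr i.castSucc) = s
    revert a b s
    decide

/-- A totally singular space of the plus form has dimension at most `m`. -/
theorem singular_le (U : Submodule (ZMod 2) (Vec m))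
    (hU : ∀ u ∈ U, Cfsg.quadFormPlus m (ZMod 2) u = 0) : Module.finrank (ZMod 2) U ≤ m := by
  let B : LinearMap.BilinForm (ZMod 2) (Vec m) := LinearMap.mk₂ (ZMod 2) (fun u v => pol u v)
    (fun a b c => pol_add_left a b c) (fun r a c => by rw [pol_smul_left, smul_eq_mul])
    (fun a b c => pol_add_right a b c) (fun r a c => by rw [pol_comm, pol_smul_left, pol_comm c a, smul_eq_mul])
  have hB : B.Nondegenerate := by
    refine ⟨fun v hv => ?_, fun v hv => ?_⟩ <;> by_contra hne <;> obtain ⟨u, hu⟩ := exists_pol_eq_one hne <;>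
      have h := hv u
    · rw [show B v u = pol v u from rfl, pol_comm, hu] at h
      exact one_ne_zero h
    · rw [show B u v = pol u v from rfl, hu] at h
      exact one_ne_zero h
  have hle : U ≤ B.orthogonal U := fun v hv u hu => by
    show pol u v = 0
    rw [pol, hU _ (U.add_mem hu hv), hU u hu, hU v hv]; ring
  have h1 := Submodule.finrank_mono hle
  have h2 := LinearMap.BilinForm.finrank_orthogonal hB U
  have h3 : Module.finrank (ZMod 2) (Vec m) = 2 * m := by simp; omega
  omega

end CfsgLib.BinForms
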