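import Mathlib
import Cfsg.Agent.Lib.BinForms.Basic

/-!
The Witt index of the minus form over the field of two elements.
-/

namespace CfsgLib.BinForms

/-- A totally singular space of the minus form in dimension `2 (k + 1)` has dimension at most `k`. -/
theorem singular_minus_le (k : ℕ) (U : Submodule (ZMod 2) ((Fin k ⊕ Fin k) ⊕ Fin 2 → ZMod 2))
    (hU : ∀ u ∈ U, Cfsg.quadFormMinus k (ZMod 2) 1 1 u = 0) : Module.finrank (ZMod 2) U ≤ k := by
  let K := ZMod 2
  let π : ((Fin k ⊕ Fin k) ⊕ Fin 2 → ZMod 2) →ₗ[ZMod 2] Vec k := LinearMap.funLeft (ZMod 2) (ZMod 2) Sum.inl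
  have hsplit : ∀ u : (Fin k ⊕ Fin k) ⊕ Fin 2 → ZMod 2, Cfsg.quadFormMinus k (ZMod 2) 1 1 u =
      Cfsg.quadFormPlus k (ZMod 2) (π u) +
        (u (.inr 0) ^ 2 + 1 * u (.inr 0) * u (.inr 1) + 1 * u (.inr 1) ^ 2) := fun u => rfl
  have hz : ∀ u ∈ U, Cfsg.quadFormPlus k (ZMod 2) (π u) = 0 → u (.inr 0) = 0 ∧ u (.inr 1) = 0 := by
    intro u hu h
    have h1 := hU u hu
    rw [hsplit, h, zero_add] at h1
    revert h1
    generalize u (.inr 0) = a
    generalize u (.inr 1) = b
    revert a b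
    decide
  have hinj : Set.InjOn π U := by
    intro u hu v hv huv
    have h1 : π (u - v) = 0 := by rw [map_sub, huv, sub_self]
    obtain ⟨h2, h3⟩ := hz _ (U.sub_mem hu hv) (by rw [h1]; exact isForm_plus.map_zero)
    rw [← sub_eq_zero]
    funext j
    rcases j with j | j
    · exact congrFun h1 j
    · fin_cases j
      · exact h2
      · exact h3
  set U1 := U.map π with hU1
  have hdim : Module.finrank (ZMod 2) U1 = Module.finrank (ZMod 2) U := by
    refine (LinearEquiv.ofBijective (π.submoduleMap U) ⟨fun a b h => Subtype.ext (hinj a.2 b.2 (congrArg Subtype.val h)), ?_⟩).finrank_eq.symm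
    exact π.submoduleMap_surjective U
  let U0 : Submodule (ZMod 2) (Vec k) :=
    (U ⊓ LinearMap.ker (LinearMap.funLeft (ZMod 2) (ZMod 2) (Sum.inr : Fin 2 → (Fin k ⊕ Fin k) ⊕ Fin 2))).map π
  have hU0 : ∀ x ∈ U0, Cfsg.quadFormPlus k (ZMod 2) x = 0 := by
    rintro _ ⟨u, ⟨hu, hk⟩, rfl⟩
    have h := hU u hu
    rw [hsplit, show u (.inr 0) = 0 from congrFun hk 0, show u (.inr 1) = 0 from congrFun hk 1] at h
    simpa using h
  let B : LinearMap.BilinForm (ZMod 2) (Vec k) := LinearMap.mk₂ (ZMod 2) (fun u v => pol u v)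
    (fun a b c => pol_add_left a b c) (fun r a c => by rw [pol_smul_left, smul_eq_mul])
    (fun a b c => pol_add_right a b c) (fun r a c => by rw [pol_comm, pol_smul_left, pol_comm c a, smul_eq_mul])
  have hB : B.Nondegenerate := by
    refine ⟨fun v hv => ?_, fun v hv => ?_⟩ <;> by_contra hne <;> obtain ⟨u, hu⟩ := exists_pol_eq_one hne <;>
      have h := hv u
    · rw [show B v u = pol v u from rfl, pol_comm, hu] at h
      exact one_ne_zero h
    · rw [show B u v = pol u v from rfl, hu] at h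
      exact one_ne_zero h
  have hperp : U1 ≤ B.orthogonal U0 := by
    rintro _ ⟨u, hu, rfl⟩ _ ⟨v, ⟨hv, hk⟩, rfl⟩
    show pol (π v) (π u) = 0
    have h1 := hU _ (U.add_mem hv hu)
    have h2 := hU u hu
    have h3 := hU v hv
    rw [hsplit] at h1 h2 h3
    simp only [Pi.add_apply, show v (.inr 0) = 0 from congrFun hk 0, show v (.inr 1) = 0 from congrFun hk 1,
      zero_add] at h1 h3
    rw [map_add] at h1
    simp only [pol]
    linear_combination h1 - h2 - h3
  have hfull : ∀ x ∈ U1, Cfsg.quadFormPlus k (ZMod 2) x = 0 → x ∈ U0 := by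
    rintro _ ⟨u, hu, rfl⟩ h
    obtain ⟨a, b⟩ := hz u hu h
    exact ⟨u, ⟨hu, funext fun j => by fin_cases j <;> assumption⟩, rfl⟩
  -- a maximal totally singular subspace of the plus form
  let L : Submodule (ZMod 2) (Vec k) := LinearMap.ker (LinearMap.funLeft (ZMod 2) (ZMod 2) (Sum.inr : Fin k → Fin k ⊕ Fin k))
  have hL : Module.finrank (ZMod 2) L = k := by
    have h := LinearMap.finrank_range_add_finrank_ker (LinearMap.funLeft (ZMod 2) (ZMod 2) (Sum.inr : Fin k → Fin k ⊕ Fin k))
    rw [LinearMap.range_eq_top.mpr (LinearMap.funLeft_surjective_of_injective _ _ _ Sum.inr_injective), finrank_top] at h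
    simp at h
    show Module.finrank (ZMod 2) (LinearMap.ker _) = k
    omega
  by_contra hlt
  have hk0 : Module.finrank (ZMod 2) U0 ≤ k := singular_le U0 hU0
  have h2 := LinearMap.BilinForm.finrank_orthogonal hB U0
  have h3 : Module.finrank (ZMod 2) (Vec k) = 2 * k := by simp; omega
  have h4 := Submodule.finrank_mono hperp
  have hle : Module.finrank (ZMod 2) U ≤ Module.finrank (ZMod 2) U0 + 2 := by
    have h := LinearMap.finrank_range_add_finrank_ker
      ((LinearMap.funLeft (ZMod 2) (ZMod 2) (Sum.inr : Fin 2 → (Fin k ⊕ Fin k) ⊕ Fin 2)).domRestrict U)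
    have hr := Submodule.finrank_le (LinearMap.range
      ((LinearMap.funLeft (ZMod 2) (ZMod 2) (Sum.inr : Fin 2 → (Fin k ⊕ Fin k) ⊕ Fin 2)).domRestrict U))
    simp at hr
    let f : LinearMap.ker ((LinearMap.funLeft (ZMod 2) (ZMod 2) (Sum.inr : Fin 2 → (Fin k ⊕ Fin k) ⊕ Fin 2)).domRestrict U) →ₗ[ZMod 2] U0 :=
      ((π.comp U.subtype).comp (Submodule.subtype _)).codRestrict U0 fun x => ⟨_, ⟨x.1.2, x.2⟩, rfl⟩
    have hker := LinearMap.finrank_le_finrank_of_injective (f := f) fun a b hab =>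
      Subtype.ext (Subtype.ext (hinj a.1.2 b.1.2 (congrArg Subtype.val hab :)))
    omega
  have hU1eq : U1 = B.orthogonal U0 := Submodule.eq_of_le_of_finrank_le hperp (by omega)
  have h5 := Submodule.finrank_sup_add_finrank_inf_eq L (B.orthogonal U0)
  have h6 := Submodule.finrank_le (L ⊔ B.orthogonal U0)
  have h7 : L ⊓ B.orthogonal U0 ≤ U0 := by
    rintro x ⟨hxL, hxU⟩
    refine hfull x (hU1eq ▸ hxU) ?_
    exact Finset.sum_eq_zero fun i _ => by
      rw [show x (.inr i) = 0 from congrFun hxL i, mul_zero]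
  have h8 := Submodule.finrank_mono (le_inf h7 (inf_le_left (a := L) (b := B.orthogonal U0)))
  have h9 : L ⊔ U0 ≤ B.orthogonal (U0 ⊓ L) := by
    refine sup_le (fun x hx u hu => ?_) (fun x hx u hu => ?_)
    · show pol u x = 0
      rw [pol_eq]
      exact Finset.sum_eq_zero fun i _ => by
        rw [show x (.inr i) = 0 from congrFun hx i, show u (.inr i) = 0 from congrFun hu.2 i]; ring
    · show pol u x = 0
      rw [pol, hU0 _ (U0.add_mem hu.1 hx), hU0 u hu.1, hU0 x hx]; ring
  have h10 := Submodule.finrank_mono h9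
  have h11 := LinearMap.BilinForm.finrank_orthogonal hB (U0 ⊓ L)
  have h12 := Submodule.finrank_sup_add_finrank_inf_eq L U0
  rw [inf_comm L U0] at h12
  -- L^⊥ + U0^⊥ lies in (L ⊓ U0)^⊥
  have h13 : L ⊔ B.orthogonal U0 ≤ B.orthogonal (U0 ⊓ L) :=
    sup_le (le_sup_left.trans h9) (LinearMap.BilinForm.orthogonal_le inf_le_left)
  have h14 := Submodule.finrank_mono h13
  omega

end CfsgLib.BinForms
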